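import Mathlib

/-! The graded map `⊕ I^{nc} → A[T]` attached to linear maps `φ_j : I^c → A`. -/

set_option autoImplicit false

universe u

namespace H1GrPhi

open MvPolynomial

variable {A : Type u} [CommRing A] {r : ℕ} (I : Ideal A) (c : ℕ) (φ : Fin r → (↥(I ^ c) →ₗ[A] A))

/-- `φ j`, extended by zero. -/
noncomputable def ext (j : Fin r) (a : A) : A := by
  classical exact if h : a ∈ I ^ c then φ j ⟨a, h⟩ else 0

theorem ext_mem (j : Fin r) {a : A} (h : a ∈ I ^ c) : ext I c φ j a = φ j ⟨a, h⟩ := by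
  rw [ext, dif_pos h]

theorem ext_mul (j : Fin r) (a : A) {g : A} (hg : g ∈ I ^ c) :
    ext I c φ j (a * g) = a * ext I c φ j g := by
  rw [ext_mem I c φ j (Ideal.mul_mem_left _ a hg), ext_mem I c φ j hg, ← smul_eq_mul a (φ j _),
    ← map_smul]
  rfl

theorem ext_add (j : Fin r) {g h : A} (hg : g ∈ I ^ c) (hh : h ∈ I ^ c) :
    ext I c φ j (g + h) = ext I c φ j g + ext I c φ j h := by
  rw [ext_mem I c φ j hg, ext_mem I c φ j hh, ext_mem I c φ j (add_mem hg hh), ← map_add]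
  rfl

theorem pow_succ_le (n : ℕ) : I ^ ((n + 1) * c) ≤ I ^ c :=
  Ideal.pow_le_pow_right (by rw [Nat.succ_mul]; exact Nat.le_add_left _ _)

theorem ext_mem_pow (j : Fin r) (n : ℕ) {x : A} (hx : x ∈ I ^ ((n + 1) * c)) :
    ext I c φ j x ∈ I ^ (n * c) := by
  rw [Nat.succ_mul, pow_add] at hx
  suffices H : x ∈ I ^ c ∧ ext I c φ j x ∈ I ^ (n * c) from H.2
  refine Submodule.mul_induction_on hx (fun a ha g hg => ⟨Ideal.mul_mem_left _ a hg, ?_⟩)
    fun a b ha hb => ⟨add_mem ha.1 hb.1, ?_⟩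
  · rw [ext_mul I c φ j a hg]; exact Ideal.mul_mem_right _ _ ha
  · rw [ext_add I c φ j ha.1 hb.1]; exact add_mem ha.2 hb.2

/-- The map in degree `n`. -/
noncomputable def Phi : ℕ → A → MvPolynomial (Fin r) A
  | 0, a => C a
  | n + 1, a => ∑ i, Phi n (ext I c φ i a) * X i

theorem Phi_add (n : ℕ) : ∀ g ∈ I ^ (n * c), ∀ h ∈ I ^ (n * c),
    Phi I c φ n (g + h) = Phi I c φ n g + Phi I c φ n h := by
  induction n with
  | zero => intro g _ h _; exact map_add C g h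
  | succ n ih =>
    intro g hg h hh
    simp only [Phi]
    rw [← Finset.sum_add_distrib]
    refine Finset.sum_congr rfl fun i _ => ?_
    rw [ext_add I c φ i (pow_succ_le I c n hg) (pow_succ_le I c n hh),
      ih _ (ext_mem_pow I c φ i n hg) _ (ext_mem_pow I c φ i n hh), add_mul]

theorem Phi_mul_left (n : ℕ) : ∀ (a : A), ∀ g ∈ I ^ (n * c),
    Phi I c φ n (a * g) = a • Phi I c φ n g := by
  induction n with
  | zero => intro a g _; simp [Phi, smul_eq_C_mul]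
  | succ n ih =>
    intro a g hg
    simp only [Phi]
    rw [Finset.smul_sum]
    refine Finset.sum_congr rfl fun i _ => ?_
    rw [ext_mul I c φ i a (pow_succ_le I c n hg), ih a _ (ext_mem_pow I c φ i n hg), smul_mul_assoc]

theorem Phi_isHomogeneous (n : ℕ) : ∀ g, (Phi I c φ n g).IsHomogeneous n := by
  induction n with
  | zero => intro g; exact isHomogeneous_C _ g
  | succ n ih =>
    intro g
    exact IsHomogeneous.sum _ _ _ fun i _ => (ih _).mul (isHomogeneous_X _ i)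

theorem Phi_one {g : A} (hg : g ∈ I ^ c) : Phi I c φ 1 g = ∑ j, C (φ j ⟨g, hg⟩) * X j := by
  simp only [Phi, ext_mem I c φ _ hg]

theorem Phi_one_mul (n : ℕ) {y : A} (hy : y ∈ I ^ (n * c)) {g : A} (hg : g ∈ I ^ c) :
    Phi I c φ (n + 1) (g * y) = Phi I c φ 1 g * Phi I c φ n y := by
  simp only [Phi]
  rw [Finset.sum_mul]
  refine Finset.sum_congr rfl fun i _ => ?_
  rw [mul_comm g y, ext_mul I c φ i y hg, mul_comm y, Phi_mul_left I c φ n _ y hy, smul_eq_C_mul]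
  ring

theorem Phi_mul (n : ℕ) : ∀ (m : ℕ), ∀ g ∈ I ^ (n * c), ∀ h ∈ I ^ (m * c),
    Phi I c φ (n + m) (g * h) = Phi I c φ n g * Phi I c φ m h := by
  induction n with
  | zero =>
    intro m g _ h hh
    rw [zero_add, Phi_mul_left I c φ m g h hh, smul_eq_C_mul]
    rfl
  | succ n ih =>
    intro m g hg h hh
    rw [Nat.succ_mul, pow_add] at hg
    suffices H : g ∈ I ^ ((n + 1) * c) ∧
        Phi I c φ (n + 1 + m) (g * h) = Phi I c φ (n + 1) g * Phi I c φ m h from H.2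
    have hmem : ∀ {a : A}, a ∈ I ^ ((n + 1) * c) → a * h ∈ I ^ ((n + 1 + m) * c) := fun {a} ha => by
      rw [add_mul, pow_add]; exact Ideal.mul_mem_mul ha hh
    refine Submodule.mul_induction_on hg (fun a ha b hb => ⟨?_, ?_⟩) fun a b ha hb => ⟨add_mem ha.1 hb.1, ?_⟩
    · rw [Nat.succ_mul, pow_add]; exact Ideal.mul_mem_mul ha hb
    · have hah : a * h ∈ I ^ ((n + m) * c) := by rw [add_mul, pow_add]; exact Ideal.mul_mem_mul ha hh
      rw [show n + 1 + m = (n + m) + 1 by omega, show a * b * h = b * (a * h) by ring,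
        Phi_one_mul I c φ (n + m) hah hb, show a * b = b * a by ring, Phi_one_mul I c φ n ha hb,
        ih m a ha h hh, mul_assoc]
    · rw [add_mul, Phi_add I c φ _ _ (hmem ha.1) _ (hmem hb.1), Phi_add I c φ _ _ ha.1 _ hb.1, ha.2,
        hb.2, add_mul]

theorem aeval_Phi (f : Fin r → A) (hφ : ∀ x : ↥(I ^ c), (x : A) = ∑ j, f j * φ j x) (n : ℕ) :
    ∀ g ∈ I ^ (n * c), aeval f (Phi I c φ n g) = g := by
  induction n with
  | zero => intro g _; simp [Phi]
  | succ n ih =>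
    intro g hg
    have h := hφ ⟨g, pow_succ_le I c n hg⟩
    simp only [Phi, map_sum, map_mul, aeval_X]
    refine Eq.trans ?_ h.symm
    refine Finset.sum_congr rfl fun i _ => ?_
    rw [ih _ (ext_mem_pow I c φ i n hg), ext_mem I c φ i (pow_succ_le I c n hg)]
    ring

theorem Phi_unique (Ψ : ℕ → A → MvPolynomial (Fin r) A)
    (hadd : ∀ n : ℕ, ∀ g ∈ I ^ (n * c), ∀ h ∈ I ^ (n * c), Ψ n (g + h) = Ψ n g + Ψ n h)
    (hmul : ∀ n m : ℕ, ∀ g ∈ I ^ (n * c), ∀ h ∈ I ^ (m * c), Ψ (n + m) (g * h) = Ψ n g * Ψ m h)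
    (h0 : ∀ a : A, Ψ 0 a = C a)
    (h1 : ∀ (g : A) (hg : g ∈ I ^ c), Ψ 1 g = ∑ j, C (φ j ⟨g, hg⟩) * X j) (n : ℕ) :
    ∀ g ∈ I ^ (n * c), Ψ n g = Phi I c φ n g := by
  induction n with
  | zero => intro g _; exact h0 g
  | succ n ih =>
    intro g hg
    rw [Nat.succ_mul, pow_add] at hg
    suffices H : g ∈ I ^ ((n + 1) * c) ∧ Ψ (n + 1) g = Phi I c φ (n + 1) g from H.2
    refine Submodule.mul_induction_on hg (fun a ha b hb => ⟨?_, ?_⟩) fun a b ha hb => ⟨add_mem ha.1 hb.1, ?_⟩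
    · rw [Nat.succ_mul, pow_add]; exact Ideal.mul_mem_mul ha hb
    · have hb' : b ∈ I ^ (1 * c) := by rwa [one_mul]
      rw [hmul n 1 a ha b hb', ih a ha, Phi_mul I c φ n 1 a ha b hb', h1 b hb, Phi_one I c φ hb]
    · rw [hadd _ _ ha.1 _ hb.1, Phi_add I c φ _ _ ha.1 _ hb.1, ha.2, hb.2]

end H1GrPhi
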