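import Groth.Agent.H1GrPhi.Basic

/-! The module version: `⊕ I^{nc'} N → N[T]`. -/

set_option autoImplicit false

universe u

namespace H1GrPhi

open MvPolynomial TensorProduct

variable {A : Type u} [CommRing A] {r : ℕ} (I : Ideal A)
  (B : Type u) [CommRing B] [Algebra A B] (N : Type u) [AddCommGroup N] [Module B N]

/-- The submodule generated by `I^k N`. -/
def S (k : ℕ) : Submodule B N :=
  Submodule.span B {y : N | ∃ g ∈ I ^ k, ∃ x : N, y = algebraMap A B g • x}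

variable {I} in
theorem mem_S {k : ℕ} {g : A} (hg : g ∈ I ^ k) (x : N) : algebraMap A B g • x ∈ S I B N k :=
  Submodule.subset_span ⟨g, hg, x, rfl⟩

theorem S_induction {k : ℕ} {P : ↥(S I B N k) → Prop}
    (gen : ∀ (g : A) (hg : g ∈ I ^ k) (x : N), P ⟨algebraMap A B g • x, mem_S B N hg x⟩) (zero : P 0)
    (add : ∀ a b, P a → P b → P (a + b)) (smul : ∀ (c : B) a, P a → P (c • a)) : ∀ y, P y := by
  intro y
  obtain ⟨y, hy⟩ := y
  exact Submodule.span_induction (R := B) (p := fun y h => P ⟨y, h⟩)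
    (by rintro y ⟨g, hg, x, rfl⟩; exact gen g hg x) zero
    (fun a b ha hb iha ihb => add ⟨a, ha⟩ ⟨b, hb⟩ iha ihb)
    (fun c a ha iha => smul c ⟨a, ha⟩ iha) hy

theorem exists_torsion_bound [IsNoetherianRing B] [Module.Finite B N] (c : ℕ) :
    ∃ e, ∀ w ∈ S I B N e, (∀ h ∈ I ^ c, algebraMap A B h • w = 0) → w = 0 := by
  let J := I.map (algebraMap A B)
  let T : Submodule B N := Submodule.torsionBySet B N ((J ^ c : Ideal B) : Set B)
  obtain ⟨k, hk⟩ := Ideal.exists_pow_inf_eq_pow_smul J T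
  refine ⟨k + c, fun w hw hwh => ?_⟩
  have h1 : S I B N (k + c) ≤ J ^ (k + c) • ⊤ := by
    refine Submodule.span_le.2 ?_
    rintro _ ⟨g, hg, x, rfl⟩
    refine Submodule.smul_mem_smul ?_ Submodule.mem_top
    rw [← Ideal.map_pow]
    exact Ideal.mem_map_of_mem _ hg
  have h2 : w ∈ T := by
    rw [Submodule.mem_torsionBySet_iff]
    rintro ⟨a, ha⟩
    show a • w = 0
    have hker : J ^ c ≤ LinearMap.ker (LinearMap.toSpanSingleton B N w) := by
      rw [← Ideal.map_pow, Ideal.map_le_iff_le_comap]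
      exact fun h hh => hwh h hh
    exact hker ha
  have h3 := hk (k + c) (Nat.le_add_right k c)
  rw [show k + c - k = c by omega] at h3
  have h4 : w ∈ J ^ c • (J ^ k • ⊤ ⊓ T) := h3 ▸ ⟨h1 hw, h2⟩
  have h5 : J ^ c • T = ⊥ := eq_bot_iff.2 (Submodule.smul_le.2 fun a ha x hx =>
    (Submodule.mem_bot B).2 ((Submodule.mem_torsionBySet_iff _ x).1 hx ⟨a, ha⟩))
  exact (Submodule.mem_bot B).1 (h5 ▸ Submodule.smul_mono le_rfl inf_le_right h4)

variable (c : ℕ) (φ : Fin r → (↥(I ^ c) →ₗ[A] A))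

theorem exists_psi [IsNoetherianRing B] [Module.Finite B N] :
    ∃ (c' : ℕ) (hcc' : c ≤ c'), ∀ j, ∃ ψ : ↥(S I B N c') →ₗ[B] N, ∀ (g : A) (hg : g ∈ I ^ c') (x : N),
      ψ ⟨algebraMap A B g • x, mem_S B N hg x⟩ =
        algebraMap A B (φ j ⟨g, Ideal.pow_le_pow_right hcc' hg⟩) • x := by
  obtain ⟨e, he⟩ := exists_torsion_bound I B N c
  refine ⟨c + e, Nat.le_add_right c e, fun j => ?_⟩
  let Good : ↥(S I B N (c + e)) → N → Prop := fun y w =>
    w ∈ S I B N e ∧ ∀ (h : A) (hh : h ∈ I ^ c),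
      algebraMap A B h • w = algebraMap A B (φ j ⟨h, hh⟩) • (y : N)
  have huniq : ∀ y w w', Good y w → Good y w' → w = w' := fun y w w' hw hw' =>
    sub_eq_zero.1 (he _ (sub_mem hw.1 hw'.1) fun h hh => by
      rw [smul_sub, hw.2 h hh, hw'.2 h hh, sub_self])
  have hgen : ∀ (g : A) (hg : g ∈ I ^ (c + e)) (x : N),
      Good ⟨algebraMap A B g • x, mem_S B N hg x⟩
        (algebraMap A B (φ j ⟨g, Ideal.pow_le_pow_right (Nat.le_add_right c e) hg⟩) • x) := by
    intro g hg x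
    have hgc : g ∈ I ^ c := Ideal.pow_le_pow_right (Nat.le_add_right c e) hg
    refine ⟨mem_S B N ?_ x, fun h hh => ?_⟩
    · rw [← ext_mem I c φ j hgc]
      rw [add_comm, pow_add] at hg
      suffices H : g ∈ I ^ c ∧ ext I c φ j g ∈ I ^ e from H.2
      refine Submodule.mul_induction_on hg (fun a ha b hb => ⟨Ideal.mul_mem_left _ a hb, ?_⟩)
        fun a b ha hb => ⟨add_mem ha.1 hb.1, ?_⟩
      · rw [ext_mul I c φ j a hb]; exact Ideal.mul_mem_right _ _ ha
      · rw [ext_add I c φ j ha.1 hb.1]; exact add_mem ha.2 hb.2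
    · rw [← ext_mem I c φ j hgc, ← ext_mem I c φ j hh, smul_smul, smul_smul, ← map_mul, ← map_mul,
        ← ext_mul I c φ j h hgc, mul_comm h g, ext_mul I c φ j g hh, mul_comm g]
  have hex : ∀ y, ∃ w, Good y w := by
    refine S_induction I B N (fun g hg x => ⟨_, hgen g hg x⟩) ⟨0, zero_mem _, fun h hh => by simp⟩ ?_ ?_
    · rintro a b ⟨w, hw⟩ ⟨w', hw'⟩
      exact ⟨w + w', add_mem hw.1 hw'.1, fun h hh => by
        rw [smul_add, hw.2 h hh, hw'.2 h hh, Submodule.coe_add, smul_add]⟩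
    · rintro d a ⟨w, hw⟩
      exact ⟨d • w, Submodule.smul_mem _ d hw.1, fun h hh => by
        rw [smul_comm, hw.2 h hh, Submodule.coe_smul, smul_comm]⟩
  choose W hW using hex
  refine ⟨{ toFun := W, map_add' := fun a b => ?_, map_smul' := fun d a => ?_ },
    fun g hg x => huniq _ _ _ (hW _) (hgen g hg x)⟩
  · refine huniq _ _ _ (hW _) ⟨add_mem (hW a).1 (hW b).1, fun h hh => ?_⟩
    rw [smul_add, (hW a).2 h hh, (hW b).2 h hh, Submodule.coe_add, smul_add]
  · refine huniq _ _ _ (hW _) ⟨Submodule.smul_mem _ d (hW a).1, fun h hh => ?_⟩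
    rw [RingHom.id_apply, smul_comm, (hW a).2 h hh, Submodule.coe_smul, smul_comm]

variable {I B N c}

/-- The module maps. -/
theorem exists_Psi {c' : ℕ} (φ' : Fin r → (↥(I ^ c') →ₗ[A] A))
    (ψ : Fin r → (↥(S I B N c') →ₗ[B] N))
    (hψ : ∀ (j : Fin r) (g : A) (hg : g ∈ I ^ c') (x : N),
      ψ j ⟨algebraMap A B g • x, mem_S B N hg x⟩ = algebraMap A B (φ' j ⟨g, hg⟩) • x) (n : ℕ) :
    ∃ Ψ : ↥(S I B N (n * c')) →ₗ[B] (MvPolynomial (Fin r) B ⊗[B] N),
      ∀ (g : A) (hg : g ∈ I ^ (n * c')) (x : N),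
        Ψ ⟨algebraMap A B g • x, mem_S B N hg x⟩ =
          MvPolynomial.map (algebraMap A B) (Phi I c' φ' n g) ⊗ₜ[B] x := by
  induction n with
  | zero =>
    refine ⟨(TensorProduct.mk B (MvPolynomial (Fin r) B) N 1) ∘ₗ (S I B N _).subtype, fun g hg x => ?_⟩
    show (1 : MvPolynomial (Fin r) B) ⊗ₜ[B] (algebraMap A B g • x) = _
    rw [← TensorProduct.smul_tmul]
    congr 1
    simp [Phi, Algebra.smul_def, MvPolynomial.algebraMap_apply]
  | succ n ih =>
    obtain ⟨Ψ, hΨ⟩ := ih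
    have hle : S I B N ((n + 1) * c') ≤ S I B N c' := Submodule.span_mono (by
      rintro _ ⟨g, hg, x, rfl⟩
      exact ⟨g, pow_succ_le I c' n hg, x, rfl⟩)
    have hmem : ∀ i (y : ↥(S I B N ((n + 1) * c'))),
        (ψ i ∘ₗ Submodule.inclusion hle) y ∈ S I B N (n * c') := by
      intro i
      refine S_induction I B N (fun g hg x => ?_) (by simp) (fun a b ha hb => ?_) (fun d a ha => ?_)
      · show ψ i ⟨algebraMap A B g • x, _⟩ ∈ _
        rw [hψ i g (pow_succ_le I c' n hg) x, ← ext_mem I c' φ' i]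
        exact mem_S B N (ext_mem_pow I c' φ' i n hg) x
      · rw [map_add]; exact add_mem ha hb
      · rw [map_smul]; exact Submodule.smul_mem _ d ha
    refine ⟨∑ i, (LinearMap.mulRight B (X i : MvPolynomial (Fin r) B)).rTensor N ∘ₗ Ψ ∘ₗ
      (ψ i ∘ₗ Submodule.inclusion hle).codRestrict _ (hmem i), fun g hg x => ?_⟩
    simp only [Phi]
    rw [map_sum, TensorProduct.sum_tmul, LinearMap.sum_apply]
    refine Finset.sum_congr rfl fun i _ => ?_
    simp only [LinearMap.comp_apply]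
    have h1 : (ψ i ∘ₗ Submodule.inclusion hle).codRestrict (S I B N (n * c')) (hmem i)
        ⟨algebraMap A B g • x, mem_S B N hg x⟩ =
          ⟨algebraMap A B (ext I c' φ' i g) • x, mem_S B N (ext_mem_pow I c' φ' i n hg) x⟩ :=
      Subtype.ext (by
        show ψ i ⟨algebraMap A B g • x, _⟩ = _
        rw [hψ i g (pow_succ_le I c' n hg) x, ← ext_mem I c' φ' i])
    rw [h1, hΨ _ (ext_mem_pow I c' φ' i n hg) x, LinearMap.rTensor_tmul, LinearMap.mulRight_apply, map_mul, MvPolynomial.map_X]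

end H1GrPhi
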